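import Mathlib
/-!
Krull dimension of sober spaces under maps lifting specializations.
-/
universe u
open TopologicalSpace Order

namespace Groth.Agent.DimChain

variable {X Y : Type*} [TopologicalSpace X] [TopologicalSpace Y]

/-- A strict specialization chain. -/
def IsChainSpec {n : ℕ} (y : Fin (n + 1) → Y) : Prop :=
  ∀ i : Fin n, y i.succ ⤳ y i.castSucc ∧ y i.succ ≠ y i.castSucc

theorem le_of_chains (h : ∀ (n : ℕ) (y : Fin (n + 1) → Y), IsChainSpec y →
    ∃ x : Fin (n + 1) → X, IsChainSpec x) [QuasiSober Y] [T0Space X] :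
    topologicalKrullDim Y ≤ topologicalKrullDim X := by
  refine iSup_le fun p => ?_
  let y : Fin (p.length + 1) → Y := fun i => (p i).isIrreducible.genericPoint
  have hy : ∀ i, closure ({y i} : Set Y) = (p i : Set Y) := fun i =>
    (p i).isIrreducible.closure_genericPoint (p i).isClosed
  have hc : IsChainSpec y := by
    intro i
    have hlt : p i.castSucc < p i.succ := p.step i
    refine ⟨specializes_iff_mem_closure.2 ?_, fun he => ?_⟩
    · rw [hy]
      exact SetLike.coe_subset_coe.2 hlt.le ((hy i.castSucc) ▸ subset_closure rfl)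
    · refine hlt.ne (TopologicalSpace.IrreducibleCloseds.ext ?_)
      rw [← hy, ← hy, he]
  obtain ⟨x, hx⟩ := h p.length y hc
  let q : LTSeries (IrreducibleCloseds X) :=
    { length := p.length
      toFun := fun i => ⟨closure {x i}, isIrreducible_singleton.closure, isClosed_closure⟩
      step := fun i => by
        refine lt_of_le_of_ne (closure_minimal (Set.singleton_subset_iff.2
          (specializes_iff_mem_closure.1 (hx i).1)) isClosed_closure) fun he => (hx i).2 ?_
        have he' : closure ({x i.castSucc} : Set X) = closure {x i.succ} := by simpa using he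
        exact ((hx i).1.antisymm (specializes_iff_mem_closure.2 (he' ▸ subset_closure rfl))).eq }
  exact le_iSup (fun s : LTSeries (IrreducibleCloseds X) => (s.length : WithBot ℕ∞)) q

theorem le_of_incomparable [QuasiSober X] [T0Space Y] (f : X → Y) (hf : Continuous f)
    (h : ∀ a b : X, a ⤳ b → f a = f b → a = b) :
    topologicalKrullDim X ≤ topologicalKrullDim Y :=
  le_of_chains fun _ x hx => ⟨fun i => f (x i), fun i =>
    ⟨(hx i).1.map hf, fun he => (hx i).2 (h _ _ (hx i).1 he)⟩⟩

theorem le_of_specializingMap [QuasiSober Y] [T0Space X] (f : X → Y) (hs : Function.Surjective f)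
    (hf : SpecializingMap f) : topologicalKrullDim Y ≤ topologicalKrullDim X := by
  refine le_of_chains fun n y hy => ?_
  suffices ∃ x : Fin (n + 1) → X, (∀ i, f (x i) = y i) ∧ ∀ i : Fin n, x i.succ ⤳ x i.castSucc by
    obtain ⟨x, hfx, hx⟩ := this
    exact ⟨x, fun i => ⟨hx i, fun he => (hy i).2 (by rw [← hfx, ← hfx, he])⟩⟩
  induction n with
  | zero =>
    obtain ⟨a, ha⟩ := hs (y 0)
    exact ⟨fun _ => a, fun i => by rw [Fin.fin_one_eq_zero i]; exact ha, fun i => i.elim0⟩
  | succ n ih =>
    obtain ⟨x, hfx, hx⟩ := ih (fun i => y i.succ) (fun i => by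
      have := hy i.succ
      rwa [← Fin.succ_castSucc] at this)
    obtain ⟨a, ha1, ha2⟩ := hf (a := x 0) (b := y 0) (by
      rw [hfx]; exact (hy 0).1)
    refine ⟨Fin.cases a x, fun i => ?_, fun i => ?_⟩
    · refine Fin.cases ?_ (fun j => ?_) i
      · exact ha2
      · exact hfx j
    · refine Fin.cases ?_ (fun j => ?_) i
      · exact ha1
      · simpa [← Fin.succ_castSucc] using hx j

theorem le_of_generalizingMap [T0Space X]
    [QuasiSober Y] (f : X → Y) (hf : GeneralizingMap f) (hs : Function.Surjective f) :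
    topologicalKrullDim Y ≤ topologicalKrullDim X := by
  refine le_of_chains fun n y hy => ?_
  suffices ∃ x : Fin (n + 1) → X, (∀ i, f (x i) = y i) ∧ ∀ i : Fin n, x i.succ ⤳ x i.castSucc by
    obtain ⟨x, hfx, hx⟩ := this
    exact ⟨x, fun i => ⟨hx i, fun he => (hy i).2 (by rw [← hfx, ← hfx, he])⟩⟩
  induction n with
  | zero =>
    obtain ⟨a, ha⟩ := hs (y 0)
    exact ⟨fun _ => a, fun i => by rw [Fin.fin_one_eq_zero i]; exact ha, fun i => i.elim0⟩
  | succ n ih =>
    obtain ⟨x, hfx, hx⟩ := ih (fun i => y i.castSucc) (fun i => by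
      have := hy i.castSucc
      rwa [Fin.succ_castSucc] at this)
    obtain ⟨a, ha1, ha2⟩ := hf (show y (Fin.last (n + 1)) ⤳ f (x (Fin.last n)) by
      rw [hfx]; exact (hy (Fin.last n)).1)
    refine ⟨Fin.snoc x a, fun i => ?_, fun i => ?_⟩
    · refine Fin.lastCases ?_ (fun j => ?_) i
      · simpa using ha2
      · simpa using hfx j
    · refine Fin.lastCases ?_ (fun j => ?_) i
      · rw [Fin.succ_last, Fin.snoc_last, Fin.snoc_castSucc]
        exact ha1
      · rw [Fin.succ_castSucc, Fin.snoc_castSucc, Fin.snoc_castSucc]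
        exact hx j

end Groth.Agent.DimChain
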