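import Groth.Agent.DimChain.Basic
import Groth.Agent.GenFibre.Basic
import Mathlib

/-!
Dimension under surjective open or closed maps and quasi-finite morphisms.
-/

set_option autoImplicit false

namespace Groth.Agent.DimChain

open AlgebraicGeometry Topology TopologicalSpace

universe u

theorem generalizingMap_of_isOpenMap {X Y : Scheme.{u}} (f : X ⟶ Y) [IsLocallyNoetherian X] (h : IsOpenMap f.base) :
    GeneralizingMap f.base := by
  intro x y' hy
  obtain ⟨U, hU, hxU, -⟩ := exists_isAffineOpen_mem_and_subset (X := X) (x := x) (U := ⊤) trivial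
  have hU' : IsAffineOpen U := hU
  haveI : IsNoetherianRing Γ(X, U) := IsLocallyNoetherian.component_noetherian ⟨U, hU'⟩
  haveI : NoetherianSpace U.toScheme := noetherianSpace_of_isAffineOpen U hU'
  let g : U.toScheme → Y := fun z => f.base (U.ι z)
  let S : Set U.toScheme := g ⁻¹' {y'}
  haveI : NoetherianSpace S := inferInstance
  have hxS : (⟨x, hxU⟩ : U.toScheme) ∈ closure S := by
    refine mem_closure_iff.2 fun V hV hxV => ?_
    have hfV : IsOpen (f.base '' (U.ι '' V)) := h _ (U.ι.isOpenEmbedding.isOpenMap V hV)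
    obtain ⟨_, ⟨z, hz, rfl⟩, hz'⟩ := hy.mem_open hfV ⟨_, ⟨_, hxV, rfl⟩, rfl⟩
    exact ⟨z, hz, hz'⟩
  obtain ⟨F, hFfin, -, hFirr, hFU⟩ :=
    NoetherianSpace.exists_finite_set_isClosed_irreducible (isClosed_univ (X := S))
  have hS : S = ⋃ T ∈ F, Subtype.val '' T := by
    rw [← Set.image_iUnion₂, ← Set.sUnion_eq_biUnion, ← hFU, Set.image_univ, Subtype.range_coe]
  rw [hS, hFfin.closure_biUnion] at hxS
  obtain ⟨T, hT, hxT⟩ := Set.mem_iUnion₂.1 hxS
  have hirr : IsIrreducible (Subtype.val '' T : Set U.toScheme) := (hFirr T hT).image _ continuous_subtype_val.continuousOn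
  obtain ⟨z, hz⟩ := QuasiSober.sober hirr.closure isClosed_closure
  have hzx : z ⤳ (⟨x, hxU⟩ : U.toScheme) := hz.specializes hxT
  have hgc : Continuous g := f.continuous.comp U.ι.continuous
  obtain ⟨t, ht, htT⟩ : ∃ t, t ∈ S ∧ z ⤳ t := by
    obtain ⟨⟨t, ht⟩, htT⟩ := (hFirr T hT).nonempty
    exact ⟨t, ht, hz.specializes (subset_closure ⟨_, htT, rfl⟩)⟩
  have h1 : g z ⤳ y' := by
    have := htT.map hgc
    rwa [show g t = y' from ht] at this
  have h2 : y' ⤳ g z := by
    rw [specializes_iff_mem_closure]
    have := image_closure_subset_closure_image hgc (s := Subtype.val '' T) ⟨z, hz.mem, rfl⟩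
    refine closure_mono ?_ this
    rintro _ ⟨_, ⟨s, -, rfl⟩, rfl⟩
    exact s.2
  exact ⟨U.ι z, hzx.map U.ι.continuous, (h1.antisymm h2).eq⟩

theorem le_of_surjective {X Y : Scheme.{u}} (f : X ⟶ Y) [IsLocallyNoetherian X] (hs : Function.Surjective f.base)
    (h : IsOpenMap f.base ∨ IsClosedMap f.base) : topologicalKrullDim Y ≤ topologicalKrullDim X := by
  rcases h with h | h
  · exact le_of_generalizingMap f.base (generalizingMap_of_isOpenMap f h) hs
  · exact le_of_specializingMap f.base hs h.specializingMap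

theorem le_closure_range {X Y : Scheme.{u}} (f : X ⟶ Y) [LocallyQuasiFinite f] [LocallyOfFiniteType f] :
    topologicalKrullDim X ≤ topologicalKrullDim (closure (Set.range f.base)) := by
  refine le_of_incomparable (fun x => (⟨f.base x, subset_closure ⟨x, rfl⟩⟩ : closure (Set.range f.base)))
    (f.continuous.subtype_mk _) fun a b hab he => ?_
  exact GenFibre.eq_of_quasiFiniteAt f (f.quasiFiniteAt b) (congrArg Subtype.val he) (Or.inl hab)

theorem dim_finite {X Y : Scheme.{u}} (f : X ⟶ Y) [IsFinite f] :
    topologicalKrullDim X = topologicalKrullDim (Set.range f.base) := by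
  have hcl : IsClosed (Set.range f.base) := f.isClosedMap.isClosed_range
  haveI : QuasiSober (Set.range f.base) := hcl.isClosedEmbedding_subtypeVal.quasiSober
  refine le_antisymm ?_ (le_of_specializingMap (Set.rangeFactorization f.base) Set.rangeFactorization_surjective
    (IsClosedMap.specializingMap fun C hC => ?_))
  · refine le_of_incomparable (Set.rangeFactorization f.base) (f.continuous.subtype_mk _) fun a b hab he => ?_
    exact GenFibre.eq_of_quasiFiniteAt f (f.quasiFiniteAt b) (congrArg Subtype.val he) (Or.inl hab)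
  · rw [show Set.rangeFactorization f.base '' C = Subtype.val ⁻¹' (f.base '' C) by
      ext ⟨y, hy⟩
      simp only [Set.mem_image, Set.mem_preimage, Subtype.ext_iff]
      rfl]
    exact (f.isClosedMap C hC).preimage continuous_subtype_val

end Groth.Agent.DimChain
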